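import Mathlib
import Cfsg.Agent.H703.Lat.Basic
import Cfsg.Agent.H616.GalFam

/-!
# The lattice inequality for rational combinations with algebraic integral values

`lattice_algInt` : if `v : Irr(G) → ℚ` and all the values of `F = ∑_{χ ∈ B} v(χ) χ` are algebraic integers then
`|v(1_G)| ≤ ∑_{χ ∈ B} v(χ)²`.  The values of `F` need not be rational: the conjugates of `F g` are the `F (g ^ m)`,
and the arithmetic-geometric mean inequality gives `∑ |F (g ^ m)| ≤ ∑ |F (g ^ m)|²`.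
-/

set_option autoImplicit false
set_option linter.unusedSectionVars false

open Cfsg
open scoped ComplexConjugate

namespace Cfsg.Agent.H98.Lat

open Cfsg.Agent.Characters.Core Cfsg.Agent.Characters.GaloisBasic Cfsg.Agent.H616 Cfsg.Agent.Blocks
  Cfsg.Agent.Blocks.Basic

universe u

variable {G : Type u} [Group G] [Finite G]

/-- The arithmetic-geometric mean inequality for a Galois family: `∑ |F u| ≤ ∑ |F u|²`. -/
theorem sum_norm_le {q : ℕ} [NeZero q] {F : ℕ → ℂ} (h : GalFam q F) :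
    ∑ u : (ZMod q)ˣ, ‖F (u : ZMod q).val‖ ≤ ∑ u : (ZMod q)ˣ, ‖F (u : ZMod q).val‖ ^ 2 := by
  by_cases h1 : F 1 = 0
  · have h2 : ∀ u : (ZMod q)ˣ, F (u : ZMod q).val = 0 := fun u =>
      h.eq_zero (NeZero.ne q) h1 (ZMod.val_coe_unit_coprime u)
    simp [h2]
  have hp : Fact (Nat.Prime 2) := ⟨Nat.prime_two⟩
  obtain ⟨M, hM⟩ := Cfsg.Agent.Blocks.Knorr.exists_isPModular 2
  have := Cfsg.Agent.Blocks.Local.isPrime_of_isPModular hM
  have h2 := h.card_le_sum h1 hM (t := 0) fun u => by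
    rw [pow_zero, div_one]
    exact Cfsg.Agent.Blocks.Local.memLocalRing_of_isIntegral (h.integral _)
  rw [pow_zero, one_pow, one_mul] at h2
  set N : ℝ := (Fintype.card (ZMod q)ˣ : ℝ) with hN
  have hNpos : 0 < N := by
    rw [hN]
    exact_mod_cast Fintype.card_pos
  set A := ∑ u : (ZMod q)ˣ, ‖F (u : ZMod q).val‖ with hA
  set S := ∑ u : (ZMod q)ˣ, ‖F (u : ZMod q).val‖ ^ 2 with hS
  have h3 : A ^ 2 ≤ N * S := by
    have := sq_sum_le_card_mul_sum_sq (s := (Finset.univ : Finset (ZMod q)ˣ)) (f := fun u => ‖F (u : ZMod q).val‖)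
    rw [Finset.card_univ] at this
    exact this
  rcases le_total A N with h4 | h4
  · exact h4.trans h2
  · have h5 : 0 ≤ A := hNpos.le.trans h4
    have h6 : N * A ≤ A ^ 2 := by
      rw [sq]
      exact mul_le_mul_of_nonneg_right h4 h5
    exact le_of_mul_le_mul_left (h6.trans h3) hNpos

variable {B : Finset (IrrCharacter G)}

/-- The values of a rational combination at the powers of an element form a Galois family. -/
theorem galFam_comb {v : IrrCharacter G → ℚ}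
    (hv : ∀ g : G, IsIntegral ℤ (∑ χ ∈ B, (v χ : ℂ) * (χ : G → ℂ) g)) (g : G) :
    GalFam (Nat.card G) fun k => ∑ χ ∈ B, (v χ : ℂ) * (χ : G → ℂ) (g ^ k) := by
  refine ⟨fun k => hv _, fun k k' hk => ?_, fun σ m hσ k => ?_⟩
  · have h1 : g ^ k = g ^ k' := by
      rw [pow_eq_pow_iff_modEq]
      exact hk.of_dvd (orderOf_dvd_natCard g)
    rw [h1]
  · rw [map_sum]
    refine Finset.sum_congr rfl fun χ _ => ?_
    rw [map_mul, map_ratCast, map_apply σ hσ (isIrr_isCharacter χ.2) Nat.card_pos.ne' pow_card_eq_one', ← pow_mul]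

/-- `∑ |F g| ≤ ∑ |F g|²`. -/
theorem sum_norm_comb_le [Fintype G] {v : IrrCharacter G → ℚ}
    (hv : ∀ g : G, IsIntegral ℤ (∑ χ ∈ B, (v χ : ℂ) * (χ : G → ℂ) g)) :
    ∑ g : G, ‖∑ χ ∈ B, (v χ : ℂ) * (χ : G → ℂ) g‖ ≤ ∑ g : G, ‖∑ χ ∈ B, (v χ : ℂ) * (χ : G → ℂ) g‖ ^ 2 := by
  have hne : NeZero (Nat.card G) := ⟨Nat.card_pos.ne'⟩
  set F : G → ℂ := fun g => ∑ χ ∈ B, (v χ : ℂ) * (χ : G → ℂ) g with hF
  have h1 : ∀ g : G, ∑ u : (ZMod (Nat.card G))ˣ, ‖F (g ^ (u : ZMod (Nat.card G)).val)‖ ≤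
      ∑ u : (ZMod (Nat.card G))ˣ, ‖F (g ^ (u : ZMod (Nat.card G)).val)‖ ^ 2 := fun g => sum_norm_le (galFam_comb hv g)
  have h2 := Finset.sum_le_sum fun (g : G) (_ : g ∈ Finset.univ) => h1 g
  rw [Finset.sum_comm, Finset.sum_comm (f := fun (g : G) (u : (ZMod (Nat.card G))ˣ) =>
    ‖F (g ^ (u : ZMod (Nat.card G)).val)‖ ^ 2)] at h2
  have h3 : ∀ (f : G → ℝ) (u : (ZMod (Nat.card G))ˣ), ∑ g : G, f (g ^ (u : ZMod (Nat.card G)).val) = ∑ g : G, f g := by
    intro f u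
    exact Fintype.sum_equiv (powCoprime (ZMod.val_coe_unit_coprime u).symm) _ _ fun g => rfl
  rw [Finset.sum_congr rfl fun u _ => h3 (fun g => ‖F g‖) u, Finset.sum_congr rfl fun u _ => h3 (fun g => ‖F g‖ ^ 2) u,
    Finset.sum_const, Finset.sum_const, nsmul_eq_mul, nsmul_eq_mul] at h2
  refine le_of_mul_le_mul_left h2 ?_
  exact_mod_cast Finset.card_pos.2 ⟨1, Finset.mem_univ _⟩

/-- **The lattice inequality** for rational combinations of irreducible characters all of whose values are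
algebraic integers. -/
theorem lattice_algInt (h1B : (⟨fun _ => 1, isIrrCharacter_one⟩ : IrrCharacter G) ∈ B) {v : IrrCharacter G → ℚ}
    (hv : ∀ g : G, IsIntegral ℤ (∑ χ ∈ B, (v χ : ℂ) * (χ : G → ℂ) g)) :
    |v ⟨fun _ => 1, isIrrCharacter_one⟩| ≤ ∑ χ ∈ B, v χ ^ 2 := by
  classical
  have := Fintype.ofFinite G
  set one : IrrCharacter G := ⟨fun _ => 1, isIrrCharacter_one⟩ with hone
  set F : G → ℂ := fun g => ∑ χ ∈ B, (v χ : ℂ) * (χ : G → ℂ) g with hF
  have hG : (0 : ℝ) < Nat.card G := by exact_mod_cast Nat.card_pos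
  have hG' : (Nat.card G : ℂ) ≠ 0 := card_ne_zero_complex
  -- the mean value of `|F|²`
  have h1 := Cfsg.Agent.H703.Lat.classInner_comb (B := B) (fun χ => (v χ : ℂ)) (fun χ => (v χ : ℂ))
  have h2 : classInner F F = (Nat.card G : ℂ)⁻¹ * ((∑ g : G, ‖F g‖ ^ 2 : ℝ) : ℂ) := by
    rw [Cfsg.Agent.Characters.Core.classInner_def]
    congr 1
    push_cast
    refine Finset.sum_congr rfl fun g _ => ?_
    rw [Complex.mul_conj, Complex.normSq_eq_norm_sq]
    push_cast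
    rfl
  rw [h2] at h1
  have h3 : (∑ g : G, ‖F g‖ ^ 2 : ℝ) = Nat.card G * ((∑ χ ∈ B, v χ ^ 2 : ℚ) : ℝ) := by
    have h4 : ((∑ g : G, ‖F g‖ ^ 2 : ℝ) : ℂ) = ((Nat.card G * ((∑ χ ∈ B, v χ ^ 2 : ℚ) : ℝ) : ℝ) : ℂ) := by
      have h5 : ∑ χ ∈ B, (v χ : ℂ) * conj (v χ : ℂ) = (((∑ χ ∈ B, v χ ^ 2 : ℚ) : ℝ) : ℂ) := by
        push_cast
        refine Finset.sum_congr rfl fun χ _ => ?_
        rw [map_ratCast, sq]
      rw [h5] at h1
      rw [Complex.ofReal_mul, ← h1, ← mul_assoc, Complex.ofReal_natCast, mul_inv_cancel₀ hG', one_mul]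
    exact Complex.ofReal_injective h4
  -- the mean value of `F`
  have h6 := Cfsg.Agent.H703.Lat.classInner_comb (B := B) (fun χ => (v χ : ℂ)) (fun χ => if χ = one then (1 : ℂ) else 0)
  have h7 : (fun g : G => ∑ χ ∈ B, (if χ = one then (1 : ℂ) else 0) * (χ : G → ℂ) g) = fun _ => (1 : ℂ) := by
    funext g
    rw [Finset.sum_eq_single_of_mem one h1B (fun χ _ h => by rw [if_neg h, zero_mul]), if_pos rfl, one_mul]
  rw [h7, Cfsg.Agent.Characters.Core.classInner_def] at h6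
  have h8 : ∑ χ ∈ B, (v χ : ℂ) * conj (if χ = one then (1 : ℂ) else 0) = v one := by
    rw [Finset.sum_eq_single_of_mem one h1B (fun χ _ h => by rw [if_neg h, map_zero, mul_zero]), if_pos rfl,
      map_one, mul_one]
  rw [h8] at h6
  simp only [map_one, mul_one] at h6
  have h9 : ∑ g : G, F g = Nat.card G * (v one : ℂ) := by
    rw [← h6, ← mul_assoc, mul_inv_cancel₀ hG', one_mul]
  have h10 : (Nat.card G : ℝ) * |(v one : ℝ)| ≤ ∑ g : G, ‖F g‖ := by
    have h11 : ‖∑ g : G, F g‖ = (Nat.card G : ℝ) * |(v one : ℝ)| := by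
      rw [h9, norm_mul, Complex.norm_natCast]
      congr 1
      rw [← Real.norm_eq_abs, ← Complex.norm_real]
      simp
    rw [← h11]
    exact norm_sum_le _ _
  have h12 := sum_norm_comb_le hv
  have h13 : (Nat.card G : ℝ) * |(v one : ℝ)| ≤ Nat.card G * ((∑ χ ∈ B, v χ ^ 2 : ℚ) : ℝ) :=
    h10.trans (h12.trans (le_of_eq h3))
  have h14 := le_of_mul_le_mul_left h13 hG
  exact_mod_cast h14

end Cfsg.Agent.H98.Lat
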